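import Groth.Prelude.Def_Found
import Groth.Prelude.Def_EGA4b
import Groth.Agent.Lib.FlatDepth.Locus
import Mathlib

/-! # The Nagata criterion: local finiteness and openness of normality -/

set_option autoImplicit false
universe u

namespace Groth.Agent.NagataCrit6

variable {R K : Type u} [CommRing R] [IsDomain R] [Field K] [Algebra R K] [IsFractionRing R K]

theorem isIntegrallyClosed_localization_iff (M : Submonoid R) (hM : M ≤ nonZeroDivisors R)
    (S : Type u) [CommRing S] [Algebra R S] [IsLocalization M S] :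
    IsIntegrallyClosed S ↔ ∀ x : K, IsIntegral R x → ∃ t ∈ M, ∃ r : R, algebraMap R K t * x = algebraMap R K r := by
  have hu : ∀ y : M, IsUnit (algebraMap R K (y : R)) := fun y =>
    isUnit_iff_ne_zero.mpr fun h => nonZeroDivisors.ne_zero (hM y.2)
      (IsFractionRing.injective R K (h.trans (map_zero _).symm))
  letI : Algebra S K := (IsLocalization.lift (S := S) hu).toAlgebra
  haveI : IsScalarTower R S K := IsScalarTower.of_algebraMap_eq fun r => (IsLocalization.lift_eq hu r).symm
  haveI : IsFractionRing S K := IsFractionRing.isFractionRing_of_isDomain_of_isLocalization M S K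
  rw [isIntegrallyClosed_iff K]
  constructor
  · intro h x hx
    obtain ⟨s, hs⟩ := h (IsIntegral.tower_top (A := S) hx)
    obtain ⟨⟨r, t⟩, hrt⟩ := IsLocalization.surj M s
    refine ⟨t.1, t.2, r, ?_⟩
    have := congrArg (algebraMap S K) hrt
    rw [map_mul, ← IsScalarTower.algebraMap_apply, ← IsScalarTower.algebraMap_apply, hs] at this
    rw [mul_comm]; exact this
  · intro h x hx
    obtain ⟨⟨m, hm⟩, hmx⟩ := IsIntegral.exists_multiple_integral_of_isLocalization M (Rₘ := S) x hx
    obtain ⟨t, ht, r, hr⟩ := h _ hmx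
    refine ⟨IsLocalization.mk' S r ⟨t * m, mul_mem ht hm⟩, ?_⟩
    apply (hu ⟨t * m, mul_mem ht hm⟩).mul_left_cancel
    rw [IsScalarTower.algebraMap_apply R S K, ← map_mul, IsLocalization.mk'_spec', ← IsScalarTower.algebraMap_apply,
      ← hr, Submonoid.smul_def, Algebra.smul_def, ← IsScalarTower.algebraMap_apply]
    show algebraMap R K t * (algebraMap R K m * x) = algebraMap R K (t * m) * x
    rw [map_mul, mul_assoc]

section Criterion

variable {B K' : Type u} [CommRing B] [IsDomain B] [IsNoetherianRing B] [Field K'] [Algebra B K']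

theorem mem_integralClosure_of_isIntegral (B' : Subalgebra B K') [Module.Finite B B'] {x : K'}
    (hx : IsIntegral B' x) : IsIntegral B x :=
  isIntegral_trans x hx

theorem exists_normal_away (hfin : Module.Finite B (integralClosure B K')) (B' : Subalgebra B K')
    [Module.Finite B B'] [IsFractionRing B' K'] :
    ∃ f : B', f ≠ 0 ∧ IsIntegrallyClosed (Localization.Away f) := by
  classical
  obtain ⟨G, hG⟩ := hfin.fg_top
  have key : ∀ g : integralClosure B K', ∃ d : B', d ≠ 0 ∧ (d : K') * g.1 ∈ B' := by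
    intro g
    obtain ⟨a, d, hd, hg⟩ := IsFractionRing.div_surjective (A := B') g.1
    have hd0 : (d : K') ≠ 0 := fun h => nonZeroDivisors.ne_zero hd (Subtype.ext h)
    refine ⟨d, nonZeroDivisors.ne_zero hd, ?_⟩
    rw [← hg]
    show (d : K') * ((a : K') / (d : K')) ∈ B'
    rw [mul_div_cancel₀ _ hd0]; exact a.2
  choose d hd0 hd using key
  have hf : ∏ g ∈ G, d g ≠ 0 := Finset.prod_ne_zero_iff.mpr fun g _ => hd0 g
  refine ⟨∏ g ∈ G, d g, hf, (isIntegrallyClosed_localization_iff (K := K') _
    (powers_le_nonZeroDivisors_of_noZeroDivisors hf) _).mpr fun x hx => ?_⟩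
  have hx' : IsIntegral B x := mem_integralClosure_of_isIntegral B' hx
  have : ((∏ g ∈ G, d g : B') : K') * x ∈ B' := by
    have hmem : (⟨x, hx'⟩ : integralClosure B K') ∈ Submodule.span B (G : Set (integralClosure B K')) :=
      hG ▸ Submodule.mem_top
    suffices ∀ z ∈ Submodule.span B (G : Set (integralClosure B K')),
        ((∏ g ∈ G, d g : B') : K') * z.1 ∈ B' from this _ hmem
    intro z hz
    induction hz using Submodule.span_induction with
    | mem g hg =>
      rw [← Finset.prod_erase_mul G d (Finset.mem_coe.mp hg)]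
      push_cast
      rw [mul_assoc]
      exact mul_mem (prod_mem fun i _ => (d i).2) (hd g)
    | zero => simp
    | add a b _ _ ha hb =>
      show _ * (a.1 + b.1) ∈ B'
      rw [mul_add]; exact add_mem ha hb
    | smul c a _ ha =>
      show _ * (c • a.1) ∈ B'
      rw [mul_smul_comm]; exact B'.smul_mem ha c
  exact ⟨_, Submonoid.mem_powers _, ⟨_, this⟩, rfl⟩

/-- The set of primes of the base over which `B'` is normal. -/
def NormalOver (B' : Subalgebra B K') : Set (PrimeSpectrum B) :=
  {q | ∀ Q : PrimeSpectrum B', Q.comap (algebraMap B B') = q → Q ∈ EGA4.norLocus B'}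

theorem isOpen_normalOver (B' : Subalgebra B K') [Module.Finite B B']
    (h : ∃ f : B', f ≠ 0 ∧ IsIntegrallyClosed (Localization.Away f)) [IsFractionRing B' K'] :
    IsOpen (NormalOver B') := by
  haveI : IsNoetherianRing B' := IsNoetherianRing.of_finite B B'
  have hopen : IsOpen (EGA4.norLocus B') := by
    refine FlatDepth.isOpen_normal_of_generic fun p hp _ => ?_
    obtain ⟨f, hf, hfn⟩ := h
    have hp0 : p.asIdeal = ⊥ := by
      rw [IsDomain.minimalPrimes_eq_singleton_bot B'] at hp
      exact hp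
    refine ⟨PrimeSpectrum.basicOpen f, (PrimeSpectrum.basicOpen f).2, ?_, fun Q hQ => ?_⟩
    · show f ∉ p.asIdeal
      rw [hp0]; exact hf
    refine ⟨IsLocalization.isDomain_localization Q.asIdeal.primeCompl_le_nonZeroDivisors, ?_⟩
    refine (isIntegrallyClosed_localization_iff (K := K') _ Q.asIdeal.primeCompl_le_nonZeroDivisors _).mpr fun x hx => ?_
    obtain ⟨t, ⟨n, rfl⟩, r, hr⟩ :=
      (isIntegrallyClosed_localization_iff (K := K') _ (powers_le_nonZeroDivisors_of_noZeroDivisors hf) _).mp hfn x hx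
    exact ⟨_, fun hmem => hQ (Q.isPrime.mem_of_pow_mem n hmem), r, hr⟩
  have : NormalOver B' = (PrimeSpectrum.comap (algebraMap B B') '' (EGA4.norLocus B')ᶜ)ᶜ := by
    ext q
    simp only [NormalOver, Set.mem_ofPred_eq, Set.mem_compl_iff, Set.mem_image, not_exists, not_and]
    exact ⟨fun h Q hQ he => hQ (h Q he), fun h Q he => by_contra fun hn => h Q hn he⟩
  rw [this]
  exact (PrimeSpectrum.isClosedMap_comap_of_isIntegral (f := algebraMap B B')
    (algebraMap_isIntegral_iff.mpr inferInstance) _ hopen.isClosed_compl).isOpen_compl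

theorem exists_mul_mem_of_normalOver (B' : Subalgebra B K') [Module.Finite B B'] [IsFractionRing B' K']
    {q : PrimeSpectrum B} (hq : q ∈ NormalOver B') {x : K'} (hx : IsIntegral B x) :
    ∃ s : B, s ∉ q.asIdeal ∧ algebraMap B K' s * x ∈ B' := by
  let J : Ideal B' :=
    { carrier := {b | (b : K') * x ∈ B'}
      add_mem' := fun {a b} ha hb => by
        show ((a + b : B') : K') * x ∈ B'
        push_cast; rw [add_mul]; exact add_mem ha hb
      zero_mem' := by show ((0 : B') : K') * x ∈ B'; simp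
      smul_mem' := fun c a ha => by
        show ((c * a : B') : K') * x ∈ B'
        push_cast; rw [mul_assoc]; exact mul_mem c.2 ha }
  suffices h : ¬ J.comap (algebraMap B B') ≤ q.asIdeal by
    obtain ⟨s, hs, hsq⟩ := SetLike.not_le_iff_exists.mp h
    exact ⟨s, hsq, hs⟩
  intro hle
  obtain ⟨Q, hJQ, hQp, hQ⟩ := Ideal.exists_ideal_over_prime_of_isIntegral q.asIdeal J hle
  obtain ⟨-, hn⟩ := hq ⟨Q, hQp⟩ (PrimeSpectrum.ext hQ)
  obtain ⟨t, ht, r, hr⟩ := (isIntegrallyClosed_localization_iff (K := K') _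
    Q.primeCompl_le_nonZeroDivisors (Localization.AtPrime Q)).mp hn x (IsIntegral.tower_top hx)
  exact ht (hJQ (show (t : K') * x ∈ B' from hr ▸ r.2))

theorem mem_normalOver (B' : Subalgebra B K') [Module.Finite B B'] [IsFractionRing B' K'] (q : PrimeSpectrum B)
    (h : ∀ x : K', IsIntegral B x → ∃ s : B, s ∉ q.asIdeal ∧ algebraMap B K' s * x ∈ B') :
    q ∈ NormalOver B' := by
  intro Q hQ
  refine ⟨IsLocalization.isDomain_localization Q.asIdeal.primeCompl_le_nonZeroDivisors, ?_⟩
  refine (isIntegrallyClosed_localization_iff (K := K') _ Q.asIdeal.primeCompl_le_nonZeroDivisors _).mpr fun x hx => ?_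
  obtain ⟨s, hs, hsx⟩ := h x (mem_integralClosure_of_isIntegral B' hx)
  refine ⟨algebraMap B B' s, fun hm => hs ?_, ⟨_, hsx⟩, rfl⟩
  rw [← hQ]; exact hm

/-- Finiteness of the integral closure from local finiteness and generic normality. -/
theorem finite_integralClosure (e : Finset K') (he : ∀ a ∈ e, IsIntegral B a)
    (hspan : ∀ x : K', ∃ b : B, b ≠ 0 ∧ algebraMap B K' b * x ∈ Submodule.span B (e : Set K'))
    (hinj : Function.Injective (algebraMap B K'))
    (hloc : ∀ m : Ideal B, m.IsMaximal → ∃ G : Finset K', (∀ g ∈ G, IsIntegral B g) ∧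
      ∀ x : K', IsIntegral B x → ∃ s : B, s ∉ m ∧ algebraMap B K' s * x ∈ Submodule.span B (G : Set K'))
    (hJ : ∀ B' : Subalgebra B K', Module.Finite B B' → IsFractionRing B' K' →
      ∃ f : B', f ≠ 0 ∧ IsIntegrallyClosed (Localization.Away f)) :
    Module.Finite B (integralClosure B K') := by
  classical
  have big : ∀ m : MaximalSpectrum B, ∃ B' : Subalgebra B K', B'.toSubmodule.FG ∧ IsOpen (NormalOver B') ∧
      (⟨m.asIdeal, m.isMaximal.isPrime⟩ : PrimeSpectrum B) ∈ NormalOver B' ∧
      ∀ q ∈ NormalOver B', ∀ x : K', IsIntegral B x → ∃ s : B, s ∉ q.asIdeal ∧ algebraMap B K' s * x ∈ B' := by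
    intro m
    obtain ⟨G, hG, hGs⟩ := hloc m.asIdeal m.isMaximal
    let B' := Algebra.adjoin B (↑(e ∪ G) : Set K')
    have hfg : B'.toSubmodule.FG := fg_adjoin_of_finite (Finset.finite_toSet _) fun a ha => by
      rcases Finset.mem_union.mp (Finset.mem_coe.mp ha) with h | h
      exacts [he a h, hG a h]
    haveI : Module.Finite B B' := Module.Finite.iff_fg.mpr hfg
    have hsub : ∀ S : Finset K', S ⊆ e ∪ G → Submodule.span B (S : Set K') ≤ B'.toSubmodule := fun S hS =>
      Submodule.span_le.mpr fun a ha => Algebra.subset_adjoin (Finset.mem_coe.mpr (hS ha))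
    haveI : FaithfulSMul B' K' := (faithfulSMul_iff_algebraMap_injective B' K').mpr Subtype.coe_injective
    haveI : IsFractionRing B' K' := IsFractionRing.of_field B' K' fun x => by
      obtain ⟨b, hb, hbx⟩ := hspan x
      refine ⟨⟨_, hsub e Finset.subset_union_left hbx⟩, algebraMap B B' b, ?_⟩
      show x = (algebraMap B K' b * x) / algebraMap B K' b
      rw [mul_div_cancel_left₀ x ((map_ne_zero_iff _ hinj).mpr hb)]
    refine ⟨B', hfg, isOpen_normalOver B' (hJ B' inferInstance inferInstance), ?_,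
      fun q hq x hx => exists_mul_mem_of_normalOver B' hq hx⟩
    refine mem_normalOver B' _ fun x hx => ?_
    obtain ⟨s, hs, hsx⟩ := hGs x hx
    exact ⟨s, hs, hsub G Finset.subset_union_right hsx⟩
  choose B' hfg hopen hmem hmul using big
  have hcov : (Set.univ : Set (PrimeSpectrum B)) ⊆ ⋃ m, NormalOver (B' m) := by
    intro q _
    obtain ⟨m, hm, hle⟩ := Ideal.exists_le_maximal q.asIdeal q.isPrime.ne_top
    refine Set.mem_iUnion.mpr ⟨⟨m, hm⟩, ?_⟩
    exact ((PrimeSpectrum.le_iff_specializes q ⟨m, hm.isPrime⟩).mp hle).mem_open (hopen _) (hmem ⟨m, hm⟩)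
  obtain ⟨t, ht⟩ := isCompact_univ.elim_finite_subcover _ hopen hcov
  let N : Submodule B K' := t.sup fun m => (B' m).toSubmodule
  have hN : N.FG := Submodule.fg_finset_sup t _ fun m _ => hfg m
  have hle : (integralClosure B K').toSubmodule ≤ N := by
    intro x hx
    by_contra hxN
    let J : Ideal B := N.colon {x}
    have hJne : J ≠ ⊤ := fun h => hxN (by
      have h1 : (1 : B) ∈ J := h ▸ Submodule.mem_top
      simpa [J, Submodule.mem_colon_singleton] using h1)
    obtain ⟨m, hm, hJm⟩ := Ideal.exists_le_maximal J hJne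
    obtain ⟨i, hi, hqi⟩ : ∃ i ∈ t, (⟨m, hm.isPrime⟩ : PrimeSpectrum B) ∈ NormalOver (B' i) := by
      have := ht (Set.mem_univ (⟨m, hm.isPrime⟩ : PrimeSpectrum B))
      simpa using this
    obtain ⟨s, hs, hsx⟩ := hmul i _ hqi x hx
    refine hs (hJm ?_)
    rw [Submodule.mem_colon_singleton, Algebra.smul_def]
    exact Finset.le_sup (f := fun m => (B' m).toSubmodule) hi hsx
  haveI : IsNoetherian B N := isNoetherian_of_fg_of_noetherian N hN
  exact Module.Finite.of_injective (Submodule.inclusion hle) (Submodule.inclusion_injective hle)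

end Criterion

section Local

variable {A K' : Type u} [CommRing A] [IsNoetherianRing A] {p : Ideal A} [p.IsPrime] [Field K'] [Algebra (A ⧸ p) K']
  [Algebra (FractionRing (A ⧸ p)) K'] [IsScalarTower (A ⧸ p) (FractionRing (A ⧸ p)) K']
  [FiniteDimensional (FractionRing (A ⧸ p)) K']

theorem exists_local_generators
    (h1 : ∀ (m : Ideal A) [m.IsMaximal] (P : Ideal (Localization.AtPrime m)) [P.IsPrime],
      CAlg.IsN2 (Localization.AtPrime m ⧸ P))
    (m : Ideal (A ⧸ p)) (hm : m.IsMaximal) :
    ∃ G : Finset K', (∀ g ∈ G, IsIntegral (A ⧸ p) g) ∧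
      ∀ x : K', IsIntegral (A ⧸ p) x → ∃ s : A ⧸ p, s ∉ m ∧
        algebraMap (A ⧸ p) K' s * x ∈ Submodule.span (A ⧸ p) (G : Set K') := by
  classical
  let mk : A →+* A ⧸ p := Ideal.Quotient.mk p
  let m' := m.comap mk
  haveI : m'.IsMaximal := Ideal.comap_isMaximal_of_surjective mk Ideal.Quotient.mk_surjective
  let j := algebraMap (A ⧸ p) K'
  have hjinj : Function.Injective j := by
    show Function.Injective (algebraMap (A ⧸ p) K')
    rw [IsScalarTower.algebraMap_eq (A ⧸ p) (FractionRing (A ⧸ p)) K']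
    exact (algebraMap (FractionRing (A ⧸ p)) K').injective.comp (IsFractionRing.injective _ _)
  have hu : ∀ s : m'.primeCompl, IsUnit ((j.comp mk) (s : A)) := fun s =>
    isUnit_iff_ne_zero.mpr fun h => s.2 (by
      show mk s.1 ∈ m
      rw [hjinj (h.trans (map_zero j).symm)]; exact m.zero_mem)
  let ψ : Localization.AtPrime m' →+* K' := IsLocalization.lift hu
  let P := RingHom.ker ψ
  haveI : P.IsPrime := RingHom.ker_isPrime ψ
  let R := Localization.AtPrime m' ⧸ P
  letI : Algebra R K' := (Ideal.Quotient.lift P ψ fun a ha => ha).toAlgebra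
  have hRinj : Function.Injective (algebraMap R K') := RingHom.kerLift_injective ψ
  let F := FractionRing R
  letI : Algebra F K' := (IsFractionRing.lift (K := F) hRinj).toAlgebra
  haveI : IsScalarTower R F K' := IsScalarTower.of_algebraMap_eq fun r =>
    (IsFractionRing.lift_algebraMap hRinj r).symm
  let θ : A ⧸ p →+* R := Ideal.Quotient.lift p ((Ideal.Quotient.mk P).comp (algebraMap A (Localization.AtPrime m')))
    fun a ha => by
      rw [RingHom.comp_apply, Ideal.Quotient.eq_zero_iff_mem]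
      show ψ _ = 0
      rw [IsLocalization.lift_eq]
      show j (mk a) = 0
      rw [Ideal.Quotient.eq_zero_iff_mem.mpr ha, map_zero]
  have hθ : ∀ b, algebraMap R K' (θ b) = j b := by
    intro b
    obtain ⟨a, rfl⟩ := Ideal.Quotient.mk_surjective b
    exact IsLocalization.lift_eq hu a
  letI : Algebra (A ⧸ p) R := θ.toAlgebra
  haveI : IsScalarTower (A ⧸ p) R K' := IsScalarTower.of_algebraMap_eq fun b => (hθ b).symm
  have hθF : Function.Injective ((algebraMap R F).comp θ) :=
    (IsFractionRing.injective R F).comp fun a b h => hjinj (((hθ a).symm.trans (congrArg (algebraMap R K') h)).trans (hθ b))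
  let eF : FractionRing (A ⧸ p) →+* F := IsFractionRing.lift hθF
  letI : Algebra (FractionRing (A ⧸ p)) F := eF.toAlgebra
  haveI : IsScalarTower (FractionRing (A ⧸ p)) F K' := IsScalarTower.of_algebraMap_eq' (by
    refine IsLocalization.ringHom_ext (nonZeroDivisors (A ⧸ p)) (RingHom.ext fun b => ?_)
    show algebraMap (FractionRing (A ⧸ p)) K' (algebraMap (A ⧸ p) _ b) = algebraMap F K' (eF (algebraMap (A ⧸ p) _ b))
    rw [← IsScalarTower.algebraMap_apply, IsFractionRing.lift_algebraMap, RingHom.comp_apply,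
      ← IsScalarTower.algebraMap_apply]
    exact (hθ b).symm)
  haveI : FiniteDimensional F K' := FiniteDimensional.right (FractionRing (A ⧸ p)) F K'
  have hfin : Module.Finite R (integralClosure R K') := h1 m' P K' inferInstance
  have hsurj : ∀ r : R, ∃ (a s : A ⧸ p), s ∉ m ∧ algebraMap R K' r * j s = j a := by
    intro r
    obtain ⟨z, rfl⟩ := Ideal.Quotient.mk_surjective r
    obtain ⟨⟨a, s⟩, h⟩ := IsLocalization.surj m'.primeCompl z
    refine ⟨mk a, mk s.1, s.2, ?_⟩
    have := congrArg ψ h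
    rw [map_mul, IsLocalization.lift_eq, IsLocalization.lift_eq] at this
    exact this
  obtain ⟨S, hS⟩ := hfin.fg_top
  have hscale : ∀ g : integralClosure R K', ∃ s : A ⧸ p, s ∉ m ∧ IsIntegral (A ⧸ p) (j s * g.1) := by
    intro g
    letI : Algebra (Localization.AtPrime m') K' := ψ.toAlgebra
    letI : Algebra A K' := (j.comp mk).toAlgebra
    haveI : IsScalarTower A (Localization.AtPrime m') K' :=
      IsScalarTower.of_algebraMap_eq fun a => (IsLocalization.lift_eq hu a).symm
    haveI : IsScalarTower A (A ⧸ p) K' := IsScalarTower.of_algebraMap_eq fun a => rfl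
    have hg : IsIntegral (Localization.AtPrime m') g.1 := by
      obtain ⟨q, hq, hqg⟩ := g.2
      obtain ⟨q', hq', -, hq'm⟩ := Polynomial.lifts_and_degree_eq_and_monic
        ((Polynomial.mem_lifts _).mpr (Polynomial.map_surjective (Ideal.Quotient.mk P) Ideal.Quotient.mk_surjective q)) hq
      refine ⟨q', hq'm, ?_⟩
      rw [← hq', Polynomial.eval₂_map] at hqg
      exact hqg
    obtain ⟨⟨s, hs⟩, hint⟩ := IsIntegral.exists_multiple_integral_of_isLocalization
      m'.primeCompl (Rₘ := Localization.AtPrime m') _ hg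
    rw [Submonoid.smul_def, Algebra.smul_def] at hint
    exact ⟨mk s, hs, IsIntegral.tower_top hint⟩
  choose σ hσ hσint using hscale
  refine ⟨S.image fun g => j (σ g) * g.1, fun g hg => ?_, fun x hx => ?_⟩
  · obtain ⟨g, -, rfl⟩ := Finset.mem_image.mp hg
    exact hσint g
  let G : Submodule (A ⧸ p) K' := Submodule.span (A ⧸ p) (S.image fun g => j (σ g) * g.1 : Finset K')
  have hmem : (⟨x, IsIntegral.tower_top (A := R) hx⟩ : integralClosure R K') ∈
      Submodule.span R (S : Set (integralClosure R K')) := hS ▸ Submodule.mem_top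
  suffices ∀ z ∈ Submodule.span R (S : Set (integralClosure R K')), ∃ s : A ⧸ p, s ∉ m ∧ j s * z.1 ∈ G from
    this _ hmem
  intro z hz
  induction hz using Submodule.span_induction with
  | mem g hg => exact ⟨σ g, hσ g, Submodule.subset_span (Finset.mem_coe.mpr (Finset.mem_image.mpr ⟨g, hg, rfl⟩))⟩
  | zero => exact ⟨1, fun h => hm.ne_top ((Ideal.eq_top_iff_one m).mpr h), by simp⟩
  | add a b _ _ ha hb =>
    obtain ⟨s, hs, hsa⟩ := ha
    obtain ⟨t, ht, htb⟩ := hb
    refine ⟨s * t, fun h => (hm.isPrime.mem_or_mem h).elim hs ht, ?_⟩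
    show j (s * t) * (a.1 + b.1) ∈ G
    have e : j (s * t) * (a.1 + b.1) = t • (j s * a.1) + s • (j t * b.1) := by
      rw [Algebra.smul_def, Algebra.smul_def, map_mul]; ring
    rw [e]
    exact add_mem (G.smul_mem t hsa) (G.smul_mem s htb)
  | smul c a _ ha =>
    obtain ⟨s, hs, hsa⟩ := ha
    obtain ⟨a', t, ht, hc⟩ := hsurj c
    refine ⟨t * s, fun h => (hm.isPrime.mem_or_mem h).elim ht hs, ?_⟩
    show j (t * s) * (c • a.1) ∈ G
    have e : j (t * s) * (c • a.1) = a' • (j s * a.1) := by
      rw [Algebra.smul_def, Algebra.smul_def, map_mul, show algebraMap (A ⧸ p) K' a' = j a' from rfl, ← hc]; ring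
    rw [e]
    exact G.smul_mem a' hsa

theorem exists_integral_spanning :
    ∃ e : Finset K', (∀ a ∈ e, IsIntegral (A ⧸ p) a) ∧
      ∀ x : K', ∃ b : A ⧸ p, b ≠ 0 ∧ algebraMap (A ⧸ p) K' b * x ∈ Submodule.span (A ⧸ p) (e : Set K') := by
  classical
  let F := FractionRing (A ⧸ p)
  let bs := Module.finBasis F K'
  have hs : ∀ i, ∃ c : A ⧸ p, c ≠ 0 ∧ IsIntegral (A ⧸ p) (algebraMap (A ⧸ p) K' c * bs i) := fun i => by
    obtain ⟨⟨c, hc⟩, h⟩ := IsIntegral.exists_multiple_integral_of_isLocalization
      (nonZeroDivisors (A ⧸ p)) (Rₘ := F) _ (Algebra.IsIntegral.isIntegral (R := F) (bs i))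
    rw [Submonoid.smul_def, Algebra.smul_def] at h
    exact ⟨c, nonZeroDivisors.ne_zero hc, h⟩
  choose c hc hint using hs
  refine ⟨Finset.univ.image fun i => algebraMap (A ⧸ p) K' (c i) * bs i, fun a ha => ?_, fun x => ?_⟩
  · obtain ⟨i, -, rfl⟩ := Finset.mem_image.mp ha
    exact hint i
  let G : Submodule (A ⧸ p) K' := Submodule.span (A ⧸ p)
    (Finset.univ.image fun i => algebraMap (A ⧸ p) K' (c i) * bs i : Finset K')
  have hx : x ∈ Submodule.span F (Set.range bs) := bs.span_eq ▸ Submodule.mem_top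
  show ∃ b : A ⧸ p, b ≠ 0 ∧ algebraMap (A ⧸ p) K' b * x ∈ G
  induction hx using Submodule.span_induction with
  | mem a ha =>
    obtain ⟨i, rfl⟩ := ha
    exact ⟨c i, hc i, Submodule.subset_span (Finset.mem_coe.mpr (Finset.mem_image.mpr ⟨i, Finset.mem_univ _, rfl⟩))⟩
  | zero => exact ⟨1, one_ne_zero, by simp⟩
  | add a b _ _ ha hb =>
    obtain ⟨s, hs, hsa⟩ := ha
    obtain ⟨t, ht, htb⟩ := hb
    refine ⟨s * t, mul_ne_zero hs ht, ?_⟩
    have e : algebraMap (A ⧸ p) K' (s * t) * (a + b) =
        t • (algebraMap (A ⧸ p) K' s * a) + s • (algebraMap (A ⧸ p) K' t * b) := by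
      rw [Algebra.smul_def, Algebra.smul_def, map_mul]; ring
    rw [e]
    exact add_mem (G.smul_mem t hsa) (G.smul_mem s htb)
  | smul q a _ ha =>
    obtain ⟨s, hs, hsa⟩ := ha
    obtain ⟨⟨n, d⟩, hq⟩ := IsLocalization.surj (nonZeroDivisors (A ⧸ p)) q
    refine ⟨(d : A ⧸ p) * s, mul_ne_zero (nonZeroDivisors.ne_zero d.2) hs, ?_⟩
    have e : algebraMap (A ⧸ p) K' ((d : A ⧸ p) * s) * (q • a) = n • (algebraMap (A ⧸ p) K' s * a) := by
      have hq' := congrArg (algebraMap F K') hq
      rw [map_mul, ← IsScalarTower.algebraMap_apply, ← IsScalarTower.algebraMap_apply] at hq'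
      rw [Algebra.smul_def, Algebra.smul_def, map_mul, ← hq']; ring
    rw [e]
    exact G.smul_mem n hsa

end Local

end Groth.Agent.NagataCrit6
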